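import Cfsg.Agent.Lib.CosetEnum.Defs

/-! Generated table data. -/

set_option autoImplicit false
set_option maxRecDepth 20000

namespace Cfsg.Lib.CosetEnum.Fi24Y7

/-- Table data. -/
def tabC_0_0 : Tab :=
  (.node 3 (.node 1 (.leaf 0x40000000000000006) (.node 1 (.leaf 0x40000000000000007) (.leaf 0x1000000000030000000000100000000004))) (.node 1 (.leaf 0x100000400000000010000010000000000200000000003) (.node 1 (.leaf 0x1000008000020000180000200000800004) (.leaf 0x100000800001000014000020000040000200000400005))))

/-- Table data. -/
def tabC_0 : Tab :=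
  tabC_0_0

end Cfsg.Lib.CosetEnum.Fi24Y7
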