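import Cfsg.Agent.Lib.CosetEnum.Fi24Y7.TabF_Data0
import Cfsg.Agent.Lib.CosetEnum.Fi24Y7.TabC_Data0
import Cfsg.Agent.Lib.CosetEnum.Fi24Y7.TabZ_Data0
import Cfsg.Agent.Lib.CosetEnum.Fi24Y7.TabP_Data0

/-! Generated certificate. -/

set_option autoImplicit false
set_option maxRecDepth 20000

namespace Cfsg.Lib.CosetEnum.Fi24Y7

/-- Table. -/
def tabF : Tab :=
  tabF_0

/-- Table. -/
def tabC : Tab :=
  tabC_0

/-- Table. -/
def tabZ : Tab :=
  tabZ_0

/-- Table. -/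
def tabP : Tab :=
  tabP_0

/-- The shifts in use. -/
def relWords : List (List Nat) :=
  [[6, 6],
    [5, 5],
    [4, 4],
    [6, 5, 6, 5, 6, 5],
    [6, 4, 6, 4],
    [5, 4, 5, 4, 5, 4]]

/-- Subgroup words. -/
def subWords : List (List Nat) :=
  [[4],
    [5]]

/-- The certificate. -/
def step : StepCert :=
  ⟨relWords, subWords, [6, 5, 4], tabF, tabC, tabZ, tabP, 3, 6, 4, 12⟩

end Cfsg.Lib.CosetEnum.Fi24Y7
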