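import Cfsg.Agent.Lib.CosetEnum.Fi24Y7.DefsPart0
import Cfsg.Agent.Lib.CosetEnum.Fi24Y7.StepsPart0
import Cfsg.Agent.Lib.CosetEnum.Fi24Y7.ClosedPart0

/-! Generated certificate. -/

set_option autoImplicit false
set_option maxRecDepth 20000

namespace Cfsg.Lib.CosetEnum.Fi24Y7

theorem step_valid {R0 : List (List Nat)} (h : shiftsOK R0 relWords = true) : step.Valid R0 where
  pos := by decide +kernel
  shifts := h
  defs := defs_0
  steps := steps_0
  closed := closed_0

end Cfsg.Lib.CosetEnum.Fi24Y7
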